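import Cfsg.Agent.H691.AN.Defs
import Cfsg.Agent.H117.O1.AltDeg

/-!
# S4766, pieces A1 and A2 (helper89): the degrees of the alternating groups

From `H117.O1.AltDeg`.
-/

set_option autoImplicit false

namespace Cfsg.Agent.H89.AN

open Cfsg Cfsg.Agent.H691.AN Cfsg.Agent.H704 Cfsg.Agent.H117.O1

/-- A1 -/
theorem a1_mem {n : ℕ} (hn : 2 ≤ n) {l : List ℕ} (hl : IsPart l n) {d : ℕ} (hd : d * hookProd l = n.factorial) :
    (transpose l ≠ l → d ∈ D n) ∧ (transpose l = l → ∃ e : ℕ, d = 2 * e ∧ e ∈ D n) := by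
  refine ⟨fun ht => mem_alt_of_ne hn hl ht hd, fun ht => ?_⟩
  obtain ⟨e, he, he'⟩ := exists_alt_deg hn hl ht
  refine ⟨e, ?_, he⟩
  apply Nat.eq_of_mul_eq_mul_right (Nat.pos_of_ne_zero fun h0 => ?_) (hd.trans he'.symm)
  rw [h0, mul_zero] at hd
  exact Nat.factorial_ne_zero n hd.symm

/-- A2 -/
theorem a2_part {n : ℕ} (hn : 2 ≤ n) {d : ℕ} (hd : d ∈ D n) :
    ∃ l : List ℕ, IsPart l n ∧ ((transpose l ≠ l ∧ d * hookProd l = n.factorial) ∨
      (transpose l = l ∧ 2 * d * hookProd l = n.factorial)) := alt_deg hn hd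

end Cfsg.Agent.H89.AN
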